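import Cfsg.Agent.H777.RealSimple

/-!
# Two Sylow embeddings with comparable fusion have the same fusion (helper777)
-/

set_option autoImplicit false

namespace Cfsg.Agent.H777.Real

universe u v w

/-- the graphs of the conjugation maps -/
def Gr {P : Type u} {G : Type v} [Group P] [Group G] (ι : P →* G) : Set (Set (P × P)) :=
  {Γ | ∃ (Q : Subgroup P) (g : G), (∀ x ∈ Q, ∃ y, ι y = g * ι x * g⁻¹) ∧
    ∀ q : P × P, q ∈ Γ ↔ q.1 ∈ Q ∧ ι q.2 = g * ι q.1 * g⁻¹}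

theorem exists_fus {P : Type u} {G : Type v} [Group P] [Group G] {ι : P →* G} (hι : Function.Injective ι)
    {Q : Subgroup P} {g : G} (h : ∀ x ∈ Q, ∃ y, ι y = g * ι x * g⁻¹) :
    ∃ φ : Q →* P, ∀ x : Q, ι (φ x) = g * ι x * g⁻¹ := by
  choose! y hy using h
  refine ⟨MonoidHom.mk' (fun x : Q => y x) ?_, fun x => hy x x.2⟩
  intro a b
  apply hι
  show ι (y (a * b : Q)) = ι (y a * y b)
  rw [hy _ (a * b).2, map_mul, hy _ a.2, hy _ b.2, Subgroup.coe_mul, map_mul]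
  group

theorem mem_Gr_of_fus {P : Type u} {G : Type v} [Group P] [Group G] {ι : P →* G} (hι : Function.Injective ι)
    {Q : Subgroup P} {φ : Q →* P} (h : Fus ι φ) : {q : P × P | ∃ x : Q, q = ((x : P), φ x)} ∈ Gr ι := by
  obtain ⟨g, hg⟩ := h
  refine ⟨Q, g, fun x hx => ⟨φ ⟨x, hx⟩, hg _⟩, fun q => ⟨?_, fun h => ?_⟩⟩
  · rintro ⟨x, rfl⟩
    exact ⟨x.2, hg x⟩
  · obtain ⟨q1, q2⟩ := q
    refine ⟨⟨q1, h.1⟩, ?_⟩
    have h2 : q2 = φ ⟨q1, h.1⟩ := hι (by rw [hg]; exact h.2)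
    exact Prod.ext rfl h2

theorem Gr_subset {P : Type u} {G : Type v} {H : Type w} [Group P] [Group G] [Group H] {ι : P →* G} {κ : P →* H}
    (hι : Function.Injective ι) (hκ : Function.Injective κ)
    (h : ∀ (Q : Subgroup P) (φ : Q →* P), Fus κ φ → Fus ι φ) : Gr κ ⊆ Gr ι := by
  rintro Γ ⟨Q, k, h1, h2⟩
  obtain ⟨φ, hφ⟩ := exists_fus hκ h1
  have h3 := mem_Gr_of_fus hι (h Q φ ⟨k, hφ⟩)
  have h4 : Γ = {q : P × P | ∃ x : Q, q = ((x : P), φ x)} := by
    ext q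
    rw [h2]
    constructor
    · intro hq
      obtain ⟨q1, q2⟩ := q
      refine ⟨⟨q1, hq.1⟩, ?_⟩
      have h2 : q2 = φ ⟨q1, hq.1⟩ := hκ (by rw [hφ]; exact hq.2)
      exact Prod.ext rfl h2
    · rintro ⟨x, rfl⟩
      exact ⟨x.2, hφ x⟩
  rw [h4]
  exact h3

theorem fus_of_mem_Gr {P : Type u} {G : Type v} [Group P] [Group G] {ι : P →* G}
    {Q : Subgroup P} {φ : Q →* P} (h : {q : P × P | ∃ x : Q, q = ((x : P), φ x)} ∈ Gr ι) : Fus ι φ := by
  obtain ⟨Q', g, h1, h2⟩ := h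
  refine ⟨g, fun x => ?_⟩
  exact ((h2 ((x : P), φ x)).1 ⟨x, rfl⟩).2

/-- Two Sylow embeddings with comparable fusion have the same fusion. -/
theorem fus_iff_of_le {P : Type u} [Group P] [Finite P] {G : Type v} [Group G] [Finite G] {p : ℕ} [Fact p.Prime]
    {f κ : P →* G} (hf : Function.Injective f) (hκ : Function.Injective κ) (T T₂ : Sylow p G)
    (hT : (T : Subgroup G) = f.range) (hT₂ : (T₂ : Subgroup G) = κ.range)
    (h : ∀ (Q : Subgroup P) (φ : Q →* P), Fus κ φ → Fus f φ) (Q : Subgroup P) (φ : Q →* P) (hφ : Fus f φ) :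
    Fus κ φ := by
  have hsub := Gr_subset hf hκ h
  -- an automorphism of `P`
  obtain ⟨g, hg⟩ := MulAction.exists_smul_eq G T T₂
  have hmem : ∀ x : P, ∃ y : P, κ y = g * f x * g⁻¹ := by
    intro x
    have h1 : g * f x * g⁻¹ ∈ (T₂ : Subgroup G) := by
      rw [← hg, Sylow.coe_subgroup_smul, hT]
      exact ⟨f x, ⟨x, rfl⟩, rfl⟩
    rw [hT₂] at h1
    obtain ⟨y, hy⟩ := h1
    exact ⟨y, hy⟩
  choose θ hθ using hmem
  have hθi : Function.Injective θ := by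
    intro x y hxy
    apply hf
    have h1 : g * f x * g⁻¹ = g * f y * g⁻¹ := by rw [← hθ, ← hθ, hxy]
    exact mul_left_cancel (mul_right_cancel h1)
  have hθb : Function.Bijective θ := Finite.injective_iff_bijective.1 hθi
  have hθm : ∀ x y, θ (x * y) = θ x * θ y := by
    intro x y
    apply hκ
    rw [map_mul, hθ, hθ, hθ, map_mul]
    group
  let Θ : P ≃* P := MulEquiv.ofBijective (MonoidHom.mk' θ hθm) hθb
  have hΘ : ∀ x, κ (Θ x) = g * f x * g⁻¹ := hθ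
  -- the graphs for `f` inject into those for `κ`
  have himg : ∀ Γ ∈ Gr f, (Prod.map Θ Θ) '' Γ ∈ Gr κ := by
    rintro Γ ⟨Q', k, h1, h2⟩
    refine ⟨Q'.map Θ.toMonoidHom, g * k * g⁻¹, ?_, ?_⟩
    · rintro _ ⟨x, hx, rfl⟩
      obtain ⟨y, hy⟩ := h1 x hx
      refine ⟨Θ y, ?_⟩
      show κ (Θ y) = g * k * g⁻¹ * κ (Θ x) * (g * k * g⁻¹)⁻¹
      rw [hΘ, hΘ, hy]
      group
    · rintro ⟨a, b⟩
      obtain ⟨x, rfl⟩ := Θ.surjective a
      obtain ⟨y, rfl⟩ := Θ.surjective b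
      have e1 : ((Θ x, Θ y) ∈ (Prod.map Θ Θ) '' Γ) ↔ (x, y) ∈ Γ := by
        constructor
        · rintro ⟨⟨x', y'⟩, hxy, he⟩
          rw [Prod.map_apply, Prod.mk.injEq] at he
          have e1 := Θ.injective he.1
          have e2 := Θ.injective he.2
          rw [← e1, ← e2]
          exact hxy
        · intro hxy
          exact ⟨(x, y), hxy, rfl⟩
      rw [e1, h2]
      have e2 : Θ x ∈ Q'.map Θ.toMonoidHom ↔ x ∈ Q' := by
        constructor
        · rintro ⟨x', hx', he⟩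
          have : x' = x := Θ.injective he
          rwa [← this]
        · intro hx
          exact ⟨x, hx, rfl⟩
      have e3 : κ (Θ y) = g * k * g⁻¹ * κ (Θ x) * (g * k * g⁻¹)⁻¹ ↔ f y = k * f x * k⁻¹ := by
        rw [hΘ, hΘ]
        have e4 : g * k * g⁻¹ * (g * f x * g⁻¹) * (g * k * g⁻¹)⁻¹ = g * (k * f x * k⁻¹) * g⁻¹ := by group
        rw [e4]
        exact ⟨fun h => mul_left_cancel (mul_right_cancel h), fun h => by rw [h]⟩
      rw [e2, e3]
  have hinj : Function.Injective (fun Γ : Set (P × P) => (Prod.map Θ Θ) '' Γ) :=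
    Set.image_injective.2 (Prod.map_injective.2 ⟨Θ.injective, Θ.injective⟩)
  have hcard : (Gr f).ncard ≤ (Gr κ).ncard :=
    Set.ncard_le_ncard_of_injOn _ himg hinj.injOn (Set.toFinite _)
  have heq : Gr κ = Gr f := Set.eq_of_subset_of_ncard_le hsub hcard (Set.toFinite _)
  apply fus_of_mem_Gr
  rw [heq]
  exact mem_Gr_of_fus hf hφ

end Cfsg.Agent.H777.Real
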