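import Mathlib.GroupTheory.PGroup
import Mathlib.GroupTheory.OrderOfElement
import Mathlib.SetTheory.Cardinal.Finite

/-!
# Interface for the elimination of the simple groups with Sylow 3-subgroup of order `3 ^ 10` (helper777)

`Row K`: if the 3-part of `|K|` is `3 ^ 10` then `K` has an abelian 3-subgroup of order at least `3 ^ 6` or an element of
order 81. To be proved for the groups of Lie type in characteristic different from 3 (and the alternating groups).
-/

set_option autoImplicit false

namespace Cfsg.Agent.H777.Elim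

/-- the 3-part of the order of `K` is `3 ^ n` -/
def Vn (n : ℕ) (K : Type*) [Group K] : Prop := 3 ^ n ∣ Nat.card K ∧ ¬ 3 ^ (n + 1) ∣ Nat.card K

/-- a large abelian 3-subgroup, or an element of order 81 -/
def Big (K : Type*) [Group K] : Prop :=
  (∃ A : Subgroup K, IsPGroup 3 A ∧ (∀ x ∈ A, ∀ y ∈ A, x * y = y * x) ∧ 3 ^ 6 ≤ Nat.card A) ∨
    ∃ x : K, orderOf x = 81

/-- the row to be proved -/
def Row (K : Type*) [Group K] : Prop := Vn 10 K → Big K

theorem Big.congr {K L : Type*} [Group K] [Group L] (e : K ≃* L) (h : Big K) : Big L := by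
  rcases h with ⟨A, hA, hab, hc⟩ | ⟨x, hx⟩
  · refine Or.inl ⟨A.map e.toMonoidHom, hA.map _, ?_, ?_⟩
    · rintro _ ⟨x, hx, rfl⟩ _ ⟨y, hy, rfl⟩
      rw [← map_mul, ← map_mul, hab x hx y hy]
    · rw [← Nat.card_congr (A.equivMapOfInjective e.toMonoidHom e.injective).toEquiv]
      exact hc
  · exact Or.inr ⟨e x, by rw [← hx]; exact MulEquiv.orderOf_eq e x⟩

theorem Row.congr {K L : Type*} [Group K] [Group L] (e : K ≃* L) (h : Row K) : Row L := by
  intro hV
  apply (h _).congr e
  unfold Vn at hV ⊢
  rwa [Nat.card_congr e.toEquiv]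

/-- `Big` from a homomorphism injective on an abelian 3-subgroup -/
theorem Big.of_hom {K L : Type*} [Group K] [Group L] {A : Subgroup L} (f : L →* K) (hA : IsPGroup 3 A)
    (hab : ∀ x ∈ A, ∀ y ∈ A, x * y = y * x) (hc : 3 ^ 6 ≤ Nat.card A) (hf : ∀ x ∈ A, f x = 1 → x = 1) : Big K := by
  refine Or.inl ⟨A.map f, hA.map _, ?_, ?_⟩
  · rintro _ ⟨x, hx, rfl⟩ _ ⟨y, hy, rfl⟩
    rw [← map_mul, ← map_mul, hab x hx y hy]
  · have hinj : Function.Injective (f.comp A.subtype) := by
      rw [injective_iff_map_eq_one]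
      intro x hx
      exact Subtype.ext (hf x x.2 hx)
    have h2 : Nat.card A = Nat.card (f.comp A.subtype).range :=
      Nat.card_congr (MonoidHom.ofInjective hinj).toEquiv
    have h3 : (f.comp A.subtype).range = A.map f := by
      rw [MonoidHom.range_comp, Subgroup.range_subtype]
    rw [h2, h3] at hc
    exact hc

end Cfsg.Agent.H777.Elim
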