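import Cfsg.Agent.H352.Th.Rest
import Cfsg.Agent.H458.Ab3
import Cfsg.Agent.H325.RowPSU
import Cfsg.Agent.H978.ThreeTor
import Cfsg.Agent.H109.ROrth
import Cfsg.Agent.H984.ThreeExc
import Cfsg.Agent.OrdDiv.Table
import Cfsg.Agent.S0000

/-!
# Recognition of the Thompson group among the simple groups with Sylow 3-subgroup of order `3 ^ 10` (helper777)
-/

set_option autoImplicit false

namespace Cfsg.Agent.H777.Elim

open Cfsg

universe u

theorem rows : Cfsg.Agent.H352.Th.Rows where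
  psl := by intro n hn F _ _ h3; exact Cfsg.Agent.H458.Ab3.row_psl hn h3
  psu := by intro n q hn F _ _ hq h3; exact Cfsg.Agent.H325.RowPSU.row_psu hn hq h3
  psp := by intro m hm F _ _ h3; exact Cfsg.Agent.H978.ThreeTor.row_psp hm h3
  oodd := by intro m hm F _ _ ho h3; exact Cfsg.Agent.H109.ROrth.row_oodd hm ho h3
  oplus := by intro m hm F _ _ h3; exact Cfsg.Agent.H109.ROrth.row_oplus hm h3
  ominus := by intro m hm F _ _ a b hab h3; exact Cfsg.Agent.H109.ROrth.row_ominus hm hab h3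
  g2 := by intro F _ _ h3; exact Cfsg.Agent.H984.ThreeExc.row_G2 h3
  f4 := by intro F _ _ h3; exact Cfsg.Agent.H984.ThreeExc.row_F4 h3
  e6 := by intro F _ _ h3; exact Cfsg.Agent.H984.ThreeExc.row_E6 h3
  e7 := by intro F _ _ h3; exact Cfsg.Agent.H984.ThreeExc.row_E7 h3
  e8 := by intro F _ _ h3; exact Cfsg.Agent.H984.ThreeExc.row_E8 h3
  te6 := by intro F _ _ q hq hK h3; exact Cfsg.Agent.H984.ThreeExc.row_twE6 hq hK h3
  td4 := by intro F _ _ q hq hK h3; exact Cfsg.Agent.H984.ThreeExc.row_twD4 hq hK h3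
  tf4 := by intro F _ _ m hm hK; exact Cfsg.Agent.H984.ThreeExc.row_twF4 hK

theorem elim {K : Type u} [Group K] [Finite K] [IsSimpleGroup K] (hV : Vn 10 K) (h27 : ∃ x : K, orderOf x = 27)
    (hB : ¬ Big K) : Cfsg.Spor.IsoTh K :=
  Cfsg.Agent.H352.Th.elim_rows rows Cfsg.Agent.OrdDiv.table Cfsg.Agent.S0000.result hV h27 hB

end Cfsg.Agent.H777.Elim
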